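import Mathlib
import Cfsg.Agent.Lib.FiOdd.Row
import Cfsg.Agent.Lib.FiTool.Chain3
import Cfsg.Agent.Lib.FiTool.F24
import Cfsg.Agent.Lib.FiOdd.Thirteen

/-! Centraliser of an element of order 13 in Fi24 (generated data) -/

set_option autoImplicit false
set_option maxRecDepth 100000
set_option linter.unusedVariables false
set_option Elab.async false

namespace CfsgLib.FiOdd.P24g

open Cfsg Subgroup CfsgLib.Comput CfsgLib.Fischer CfsgLib.ThreeTrans CfsgLib.FiTool CfsgLib.FiOdd

variable {G : Type*} [Group G] {D : Set G} {g pt : ℕ → G}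

/-- fixed points -/
def c13fF : List ℕ := [nat_lit 248024, nat_lit 248252, nat_lit 306720, nat_lit 306782, nat_lit 306783, nat_lit 306917]

/-- certificate -/
noncomputable def c13fT : Tr :=
  (.node (nat_lit 186054) (.node (nat_lit 145064) (.node (nat_lit 88096) (.node (nat_lit 50709) (.node (nat_lit 50693) (.leaf (nat_lit 2089) (nat_lit 0)) (.leaf (nat_lit 0) (nat_lit 0)))
(.node (nat_lit 9541) (.leaf (nat_lit 0) (nat_lit 0)) (.leaf (nat_lit 0) (nat_lit 0))))
(.node (nat_lit 38891) (.node (nat_lit 4927) (.leaf (nat_lit 0) (nat_lit 0)) (.leaf (nat_lit 0) (nat_lit 0)))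
(.node (nat_lit 5742) (.leaf (nat_lit 0) (nat_lit 0)) (.leaf (nat_lit 0) (nat_lit 0)))))
(.node (nat_lit 26542) (.node (nat_lit 3456) (.node (nat_lit 16) (.leaf (nat_lit 0) (nat_lit 0)) (.leaf (nat_lit 0) (nat_lit 0)))
(.node (nat_lit 1490) (.leaf (nat_lit 0) (nat_lit 0)) (.leaf (nat_lit 0) (nat_lit 0))))
(.node (nat_lit 3473) (.node (nat_lit 8) (.leaf (nat_lit 0) (nat_lit 0)) (.leaf (nat_lit 0) (nat_lit 0)))
(.node (nat_lit 8) (.leaf (nat_lit 0) (nat_lit 0)) (.leaf (nat_lit 0) (nat_lit 0))))))
(.node (nat_lit 82420) (.node (nat_lit 42122) (.node (nat_lit 10881) (.node (nat_lit 5060) (.leaf (nat_lit 0) (nat_lit 0)) (.leaf (nat_lit 0) (nat_lit 0)))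
(.node (nat_lit 27129) (.leaf (nat_lit 0) (nat_lit 0)) (.leaf (nat_lit 0) (nat_lit 0))))
(.node (nat_lit 8374) (.node (nat_lit 8) (.leaf (nat_lit 0) (nat_lit 0)) (.leaf (nat_lit 0) (nat_lit 0)))
(.node (nat_lit 3466) (.leaf (nat_lit 0) (nat_lit 0)) (.leaf (nat_lit 0) (nat_lit 0)))))
(.node (nat_lit 12841) (.node (nat_lit 5160) (.node (nat_lit 3309) (.leaf (nat_lit 0) (nat_lit 0)) (.leaf (nat_lit 0) (nat_lit 0)))
(.node (nat_lit 12) (.leaf (nat_lit 0) (nat_lit 0)) (.leaf (nat_lit 0) (nat_lit 0))))
(.node (nat_lit 10253) (.node (nat_lit 3417) (.leaf (nat_lit 0) (nat_lit 0)) (.leaf (nat_lit 0) (nat_lit 0)))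
(.node (nat_lit 8) (.leaf (nat_lit 0) (nat_lit 0)) (.leaf (nat_lit 0) (nat_lit 0)))))))

theorem c13f_ok : fixOK ps24 (nat_lit 0x302090506080104) (fixAcc 306936 W24 [nat_lit 0x302090506080104] 0 13 (fullM 306936)) c13fF c13fT = true := by decide +kernel

theorem c13f (M : FM D 306936 W24 g pt ps24 12 (nth 0 gp24)) :
    semG 306936 pt (maskL c13fF) = {y | y ∈ D ∧ Commute (ev g (nat_lit 0x302090506080104)) y} :=
  M.semG_fix (FA.acc M.tm (FA.zero 306936 pt _) 13) c13f_ok

/-- chain data -/
noncomputable def c13 : Ch :=
  ⟨[nat_lit 0x302090506080104, nat_lit 0x401080605090203],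
  [nat_lit 12, nat_lit 0x70b04090605040809040304050602010b040308020405040304080409020103020605070604030804050408030406070506020301020904080403040504020803040b01020605040304090804050609040b07, nat_lit 10, nat_lit 0x706050403080204030506070a04050804030206050706040308040504080304060705060203040805040a070605030402080304050607, nat_lit 1, nat_lit 2, nat_lit 131842, nat_lit 262916, nat_lit 0x5040908090405, nat_lit 7],
  [nat_lit 306720, nat_lit 248024, nat_lit 306917, nat_lit 306782, nat_lit 305570, nat_lit 306913, nat_lit 306624, nat_lit 306627, nat_lit 306154, nat_lit 305857],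
  [nat_lit 0x302090506080104, nat_lit 0x401080605090203, nat_lit 12, nat_lit 0x70b04090605040809040304050602010b040308020405040304080409020103020605070604030804050408030406070506020301020904080403040504020803040b01020605040304090804050609040b07, nat_lit 10, nat_lit 0x706050403080204030506070a04050804030206050706040308040504080304060705060203040805040a070605030402080304050607]⟩

theorem c13_ok : c13.ok ps24 (nth 0 gp24) 12 = true := by decide +kernel

theorem c13_z : c13.lastOK ps24 (nth 0 gp24) 12 10 [nat_lit 4, nat_lit 5, nat_lit 2054, nat_lit 657414, nat_lit 0x1090c080a0109, nat_lit 786953, nat_lit 9, nat_lit 0xa010b0c0209, nat_lit 0xb020a0c0109, nat_lit 2, nat_lit 0x7080a010c0101010101080c07090701, nat_lit 0] = true := by decide +kernel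

/-- certificate -/
noncomputable def c13_t9 : Tr :=
  (.node (nat_lit 306782) (.leaf (nat_lit 305859) (nat_lit 6)) (.node (nat_lit 1) (.leaf (nat_lit 0) (nat_lit 1)) (.leaf (nat_lit 0) (nat_lit 1))))

theorem c13_t9_ok : allT (ref2 ps24 (nth 0 gp24) 12 (c13.us 9) (nth 0 c13.ws 9) (c13.b 9)) c13_t9 0 = true := by decide +kernel

theorem c13_v9 : c13.lvOK 306936 W24 fx24 ps24 9 (fullM 306936) (maskT c13_t9) [nat_lit 4, nat_lit 0, nat_lit 2, nat_lit 5, nat_lit 6, nat_lit 7, nat_lit 8]
    [] (nat_lit 0)
    [] 0 1 = true := by decide +kernel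

theorem c13_d5 : band (c13.derOK ps24 [nat_lit 516, nat_lit 459012, nat_lit 131588, nat_lit 65796] 5) (Nat.beq (Nat.add 5 [nat_lit 516, nat_lit 459012, nat_lit 131588, nat_lit 65796].length) 9) = true := by decide +kernel

/-- certificate -/
noncomputable def c13_t4 : Tr :=
  (.node (nat_lit 300231) (.node (nat_lit 283435) (.node (nat_lit 232922) (.node (nat_lit 232883) (.node (nat_lit 232826) (.node (nat_lit 232820) (.node (nat_lit 232819) (.leaf (nat_lit 232817) (nat_lit 0x40803040609050804020304080504010500000000000000000000000000000001)) (.leaf (nat_lit 0) (nat_lit 0x4080304060905080402030408050401020500000000000000000000000000000001)))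
(.node (nat_lit 1) (.leaf (nat_lit 0) (nat_lit 0x40803040203060905080401030508060500000000000000000000000000000001)) (.node (nat_lit 1) (.leaf (nat_lit 0) (nat_lit 0x4080304020306090508040103050806040500000000000000000000000000010101)) (.leaf (nat_lit 0) (nat_lit 0x4080304020306090508040103050206080500000000000000000000000000010101)))))
(.node (nat_lit 54) (.node (nat_lit 3) (.leaf (nat_lit 0) (nat_lit 0x4080304060905080402030408010205090500000000000000000000000000000001)) (.node (nat_lit 2) (.leaf (nat_lit 0) (nat_lit 0x40803040609050804020304020108050500000000000000000000000000000001)) (.leaf (nat_lit 0) (nat_lit 0x4080304060905080402030402010205080500000000000000000000000000000001))))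
(.node (nat_lit 1) (.leaf (nat_lit 0) (nat_lit 0x408030406050203010204090803040503090500000000000000000000000202020202)) (.node (nat_lit 1) (.leaf (nat_lit 0) (nat_lit 0x40803040203010206090508040308050408060500000000000000000000000000000001)) (.leaf (nat_lit 0) (nat_lit 0x40803040203010206090508040503040208060500000000000000000000000000000001))))))
(.node (nat_lit 12) (.node (nat_lit 9) (.node (nat_lit 5) (.leaf (nat_lit 0) (nat_lit 0x4080304020301020609050804030805040209050500000000000000000000000000000001)) (.leaf (nat_lit 0) (nat_lit 0x4080304060502030102040908030405030500000000000000000000000000000001)))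
(.node (nat_lit 1) (.leaf (nat_lit 0) (nat_lit 0x408030406050203010204090803040503060500000000000000000000000202020202)) (.node (nat_lit 1) (.leaf (nat_lit 0) (nat_lit 0x40803040203010206090508040308050408090500000000000000000000000000000001)) (.leaf (nat_lit 0) (nat_lit 0x40803040203010206090508040503040208090500000000000000000000000000000001)))))
(.node (nat_lit 21) (.node (nat_lit 17) (.leaf (nat_lit 0) (nat_lit 0x4080304020301020609050804030805040205060500000000000000000000000000000001)) (.node (nat_lit 1) (.leaf (nat_lit 0) (nat_lit 0x40803040203010206090508040308050500000000000000000000000000010101)) (.leaf (nat_lit 0) (nat_lit 0x4080304020301020609050804030805040500000000000000000000000000000001))))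
(.node (nat_lit 3) (.leaf (nat_lit 0) (nat_lit 0x4080304020301020609050804050306080500000000000000000000000000000001)) (.node (nat_lit 2) (.leaf (nat_lit 0) (nat_lit 0x40803040203010206090508040308050406020500000000000000000000000000000001)) (.leaf (nat_lit 0) (nat_lit 0x408030402030102060905080403080509040500000000000000000000000000010101)))))))
(.node (nat_lit 48926) (.node (nat_lit 48863) (.node (nat_lit 3) (.node (nat_lit 2) (.leaf (nat_lit 0) (nat_lit 0x408030406090508040203040801020309050500000000000000000000000000000001)) (.leaf (nat_lit 0) (nat_lit 0x408030402030102060905080403080509060500000000000000000000000000010101)))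
(.node (nat_lit 48843) (.leaf (nat_lit 0) (nat_lit 0x40803040203010206090508040308050406090500000000000000000000000000000001)) (.node (nat_lit 6) (.leaf (nat_lit 0) (nat_lit 0x40803040203010500000000000000000000000202020202)) (.leaf (nat_lit 0) (nat_lit 0x408030402030109060500000000000000000000000202020202)))))
(.node (nat_lit 3) (.node (nat_lit 1) (.leaf (nat_lit 0) (nat_lit 0x408030402030102060905080405080500000000000000000000000000000001)) (.node (nat_lit 1) (.leaf (nat_lit 0) (nat_lit 0x408030402090308060405010406080500000000000000000000000000010101)) (.leaf (nat_lit 0) (nat_lit 0x40803040203010206090508040508060500000000000000000000000000000001))))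
(.node (nat_lit 1) (.leaf (nat_lit 0) (nat_lit 0x408030402030609050804010805090500000000000000000000000000010101)) (.node (nat_lit 2) (.leaf (nat_lit 0) (nat_lit 0x40803040605020301020409080409050500000000000000000000000000000001)) (.leaf (nat_lit 0) (nat_lit 0x4080304020301020609050804050806090500000000000000000000000000000001))))))
(.node (nat_lit 7) (.node (nat_lit 3) (.node (nat_lit 1) (.leaf (nat_lit 0) (nat_lit 0x40803040203010206090508040308050406050500000000000000000000000202020202)) (.node (nat_lit 1) (.leaf (nat_lit 0) (nat_lit 0x4080304020301020609050804030805040209080500000000000000000000000000000001)) (.leaf (nat_lit 0) (nat_lit 0x4080304020301020609050804030805040609080500000000000000000000000000010101))))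
(.node (nat_lit 2) (.leaf (nat_lit 0) (nat_lit 0x408030402030102060905080403080504060908020500000000000000000000000000000001)) (.node (nat_lit 1) (.leaf (nat_lit 0) (nat_lit 0x408030402030102060905080403080504060905020500000000000000000000000000000001)) (.leaf (nat_lit 0) (nat_lit 0x40803040203010206090508040308050408050500000000000000000000000202020202)))))
(.node (nat_lit 1520) (.node (nat_lit 1514) (.leaf (nat_lit 0) (nat_lit 0x4080304020301020609050804030805040205080500000000000000000000000000000001)) (.node (nat_lit 3) (.leaf (nat_lit 0) (nat_lit 0x305020801040400000000000000000000000000000001)) (.leaf (nat_lit 0) (nat_lit 0x305020801090400000000000000000000000000000001))))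
(.node (nat_lit 57) (.leaf (nat_lit 0) (nat_lit 0x4060308020401090500000000000000000000000000000001)) (.node (nat_lit 1) (.leaf (nat_lit 0) (nat_lit 0x408030406090508040203040805040102030500000000000000000000000000000001)) (.leaf (nat_lit 0) (nat_lit 0x40803040203010206090508040308050402030500000000000000000000000000010101))))))))
(.node (nat_lit 3138) (.node (nat_lit 1536) (.node (nat_lit 22) (.node (nat_lit 3) (.node (nat_lit 1) (.leaf (nat_lit 0) (nat_lit 0x4080304060905080402030402010203080509040500000000000000000000000000000001)) (.leaf (nat_lit 0) (nat_lit 0x40803040203060905080401030502060803010500000000000000000000000000010101)))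
(.node (nat_lit 1) (.leaf (nat_lit 0) (nat_lit 0x408030406090508040203040201020308050500000000000000000000000000000001)) (.node (nat_lit 17) (.leaf (nat_lit 0) (nat_lit 0x40803040203010206090508040308050402010500000000000000000000000000010101)) (.leaf (nat_lit 0) (nat_lit 0x4080304060905080402030408010203040109050500000000000000000000000000000001)))))
(.node (nat_lit 6) (.node (nat_lit 2) (.leaf (nat_lit 0) (nat_lit 0x408030402030102060905080403080504020108060500000000000000000000000202020202)) (.node (nat_lit 3) (.leaf (nat_lit 0) (nat_lit 0x4080304020301020609050804030805040201080500000000000000000000000000000001)) (.leaf (nat_lit 0) (nat_lit 0x4080304060905080402030408010203040105060500000000000000000000000000000001))))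
(.node (nat_lit 1505) (.leaf (nat_lit 0) (nat_lit 0x408030402030102060905080403080504020108090500000000000000000000000202020202)) (.node (nat_lit 1) (.leaf (nat_lit 0) (nat_lit 0x408030406050203010500000000000000000000000202020202)) (.leaf (nat_lit 0) (nat_lit 0x40803040605020304010500000000000000000000000000010101))))))
(.node (nat_lit 49) (.node (nat_lit 15) (.node (nat_lit 1) (.leaf (nat_lit 0) (nat_lit 0x4080304060502030102040500000000000000000000000000000001)) (.node (nat_lit 1) (.leaf (nat_lit 0) (nat_lit 0x40803040605020301090500000000000000000000000000010101)) (.leaf (nat_lit 0) (nat_lit 0x4080304060502030109040500000000000000000000000202020202))))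
(.node (nat_lit 1) (.leaf (nat_lit 0) (nat_lit 0x40803040605020301020409080500000000000000000000000000000001)) (.node (nat_lit 31) (.leaf (nat_lit 0) (nat_lit 0x4080304060502030102040908040500000000000000000000000000010101)) (.leaf (nat_lit 0) (nat_lit 0x408030406050203010204090804090304020500000000000000000000000000000001)))))
(.node (nat_lit 1548) (.node (nat_lit 1) (.leaf (nat_lit 0) (nat_lit 0x40803040605020301020409080304030500000000000000000000000000000001)) (.node (nat_lit 2) (.leaf (nat_lit 0) (nat_lit 0x408030402030102060905080403080500000000000000000000000000000001)) (.leaf (nat_lit 0) (nat_lit 0x40803040609050804020304080102030500000000000000000000000000000001))))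
(.node (nat_lit 1) (.leaf (nat_lit 0) (nat_lit 0x408030402090108030500000000000000000000000000010101)) (.node (nat_lit 3) (.leaf (nat_lit 0) (nat_lit 0x40803040209030804010500000000000000000000000202020202)) (.leaf (nat_lit 0) (nat_lit 0x40803040203010906080500000000000000000000000202020202)))))))
(.node (nat_lit 8952) (.node (nat_lit 28) (.node (nat_lit 17) (.node (nat_lit 2) (.leaf (nat_lit 0) (nat_lit 0x4080304020903080401060500000000000000000000000000010101)) (.leaf (nat_lit 0) (nat_lit 0x408030402030109020806040500000000000000000000000000000001)))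
(.node (nat_lit 1) (.leaf (nat_lit 0) (nat_lit 0x4080304020903080604050102060500000000000000000000000000000001)) (.node (nat_lit 9) (.leaf (nat_lit 0) (nat_lit 0x408030402090308060405010206040500000000000000000000000000010101)) (.leaf (nat_lit 0) (nat_lit 0x4080304020903080604050102030406030500000000000000000000000000000001)))))
(.node (nat_lit 8919) (.node (nat_lit 2) (.leaf (nat_lit 0) (nat_lit 0x40803040203010206090508040503060500000000000000000000000000000001)) (.node (nat_lit 3) (.leaf (nat_lit 0) (nat_lit 0x4080304020301020609050804050306020500000000000000000000000000000001)) (.leaf (nat_lit 0) (nat_lit 0x4080304020301020609050804050304020500000000000000000000000000000001))))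
(.node (nat_lit 1) (.leaf (nat_lit 0) (nat_lit 0x30502080400000000000000000000000000010101)) (.node (nat_lit 1) (.leaf (nat_lit 0) (nat_lit 0x4080304020500000000000000000000000000010101)) (.leaf (nat_lit 0) (nat_lit 0x408030500000000000000000000000000000001))))))
(.node (nat_lit 4671) (.node (nat_lit 7) (.node (nat_lit 2) (.leaf (nat_lit 0) (nat_lit 0x406030802040500000000000000000000000000000001)) (.node (nat_lit 1) (.leaf (nat_lit 0) (nat_lit 0x4080304060500000000000000000000000000000001)) (.leaf (nat_lit 0) (nat_lit 0x4080309020500000000000000000000000000000001))))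
(.node (nat_lit 1) (.leaf (nat_lit 0) (nat_lit 0x406030802090500000000000000000000000000010101)) (.node (nat_lit 1) (.leaf (nat_lit 0) (nat_lit 0x40803040209060500000000000000000000000000010101)) (.leaf (nat_lit 0) (nat_lit 0x4080309060500000000000000000000000000000001)))))
(.node (nat_lit 3) (.node (nat_lit 1) (.leaf (nat_lit 0) (nat_lit 0x4080304020301020b010c0b0500000000000000000000000000000001)) (.node (nat_lit 1) (.leaf (nat_lit 0) (nat_lit 0x4080304020301020b010c0b060500000000000000000000000000000001)) (.leaf (nat_lit 0) (nat_lit 0x4080304020301020b010c0b090500000000000000000000000000000001))))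
(.node (nat_lit 29) (.leaf (nat_lit 0) (nat_lit 0x4080304020301020b010c0b09060500000000000000000000000000000001)) (.node (nat_lit 2) (.leaf (nat_lit 0) (nat_lit 0x408030402030102060905080403080504020308060500000000000000000000000202020202)) (.leaf (nat_lit 0) (nat_lit 0x4080304020301020609050804030805040205030500000000000000000000000000010101)))))))))
(.node (nat_lit 5436) (.node (nat_lit 1117) (.node (nat_lit 550) (.node (nat_lit 264) (.node (nat_lit 261) (.node (nat_lit 254) (.leaf (nat_lit 0) (nat_lit 0x408030402030102060905080403080504020108050500000000000000000000000202020202)) (.leaf (nat_lit 0) (nat_lit 0x408030406050203040801020500000000000000000000000202020202)))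
(.node (nat_lit 1) (.leaf (nat_lit 0) (nat_lit 0x4080304060905080402030408010500000000000000000000000000000001)) (.node (nat_lit 1) (.leaf (nat_lit 0) (nat_lit 0x408030406090508040203040801020500000000000000000000000000000001)) (.leaf (nat_lit 0) (nat_lit 0x408030406090508040203040801090500000000000000000000000000000001)))))
(.node (nat_lit 278) (.node (nat_lit 10) (.leaf (nat_lit 0) (nat_lit 0x40803040609050804020304080109020500000000000000000000000000000001)) (.node (nat_lit 2) (.leaf (nat_lit 0) (nat_lit 0x408030406090508040203040201080500000000000000000000000000000001)) (.leaf (nat_lit 0) (nat_lit 0x40803040609050804020304080209010500000000000000000000000000000001))))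
(.node (nat_lit 1) (.leaf (nat_lit 0) (nat_lit 0x40803040605020301020403080500000000000000000000000000000001)) (.node (nat_lit 6) (.leaf (nat_lit 0) (nat_lit 0x4080304020301020b010c0b0906050500000000000000000000000000000001)) (.leaf (nat_lit 0) (nat_lit 0x408030406050203010204090803090500000000000000000000000000000001))))))
(.node (nat_lit 287) (.node (nat_lit 19) (.node (nat_lit 1) (.leaf (nat_lit 0) (nat_lit 0x40803040605020301020409080309040500000000000000000000000202020202)) (.node (nat_lit 1) (.leaf (nat_lit 0) (nat_lit 0x4080304060502030102040908030500000000000000000000000202020202)) (.leaf (nat_lit 0) (nat_lit 0x408030406050203010204090803040500000000000000000000000000000001))))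
(.node (nat_lit 1) (.leaf (nat_lit 0) (nat_lit 0x40803040609050804020304080102030401090500000000000000000000000000000001)) (.node (nat_lit 262) (.leaf (nat_lit 0) (nat_lit 0x408030406090508040203040801020309010500000000000000000000000000000001)) (.leaf (nat_lit 0) (nat_lit 0x40803040209030804050601020500000000000000000000000202020202)))))
(.node (nat_lit 3) (.node (nat_lit 1) (.leaf (nat_lit 0) (nat_lit 0x4080304020306090508040103050500000000000000000000000000000001)) (.node (nat_lit 1) (.leaf (nat_lit 0) (nat_lit 0x408030402030609050804010305020500000000000000000000000000000001)) (.leaf (nat_lit 0) (nat_lit 0x408030402090308060405010406030500000000000000000000000000000001))))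
(.node (nat_lit 10) (.leaf (nat_lit 0) (nat_lit 0x40803040203060905080401030502060500000000000000000000000000000001)) (.node (nat_lit 2) (.leaf (nat_lit 0) (nat_lit 0x408030406090508040203040205010500000000000000000000000000000001)) (.leaf (nat_lit 0) (nat_lit 0x40803040609050804020304020501060500000000000000000000000000000001)))))))
(.node (nat_lit 298) (.node (nat_lit 11) (.node (nat_lit 8) (.node (nat_lit 3) (.leaf (nat_lit 0) (nat_lit 0x4080304020301020b010c0b09080500000000000000000000000000000001)) (.leaf (nat_lit 0) (nat_lit 0x4080304020903080401020503060500000000000000000000000000000001)))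
(.node (nat_lit 1) (.leaf (nat_lit 0) (nat_lit 0x408030402090308040102050306050500000000000000000000000202020202)) (.node (nat_lit 1) (.leaf (nat_lit 0) (nat_lit 0x40803040209030806040501020304060500000000000000000000000000000001)) (.leaf (nat_lit 0) (nat_lit 0x4080304020903080604050102030500000000000000000000000000000001)))))
(.node (nat_lit 277) (.node (nat_lit 11) (.leaf (nat_lit 0) (nat_lit 0x408030402090308060405010203040500000000000000000000000202020202)) (.node (nat_lit 1) (.leaf (nat_lit 0) (nat_lit 0x408030402030609050804010305020301040500000000000000000000000000000001)) (.leaf (nat_lit 0) (nat_lit 0x4080304020306090508040103050203010500000000000000000000000000000001))))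
(.node (nat_lit 1) (.leaf (nat_lit 0) (nat_lit 0x4080304020301090608050500000000000000000000000000000001)) (.node (nat_lit 8) (.leaf (nat_lit 0) (nat_lit 0x408030402030609050804010500000000000000000000000000000001)) (.leaf (nat_lit 0) (nat_lit 0x40803040203060905080401030500000000000000000000000000000001))))))
(.node (nat_lit 3158) (.node (nat_lit 12) (.node (nat_lit 10) (.leaf (nat_lit 0) (nat_lit 0x40803040609050804020301020500000000000000000000000000010101)) (.node (nat_lit 1) (.leaf (nat_lit 0) (nat_lit 0x4080304060905080402030102010500000000000000000000000000010101)) (.leaf (nat_lit 0) (nat_lit 0x408030406090508040203040201020500000000000000000000000000000001))))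
(.node (nat_lit 3143) (.leaf (nat_lit 0) (nat_lit 0x40803040609050804030201030500000000000000000000000000000001)) (.node (nat_lit 1) (.leaf (nat_lit 0) (nat_lit 0x408030406090508040203040805040500000000000000000000000000000001)) (.leaf (nat_lit 0) (nat_lit 0x408030406090508040203040205080500000000000000000000000000000001)))))
(.node (nat_lit 671) (.node (nat_lit 3) (.leaf (nat_lit 0) (nat_lit 0x408030402030609050804050306080500000000000000000000000000010101)) (.node (nat_lit 571) (.leaf (nat_lit 0) (nat_lit 0x408030406090508040203040805090500000000000000000000000000000001)) (.leaf (nat_lit 0) (nat_lit 0x20401080300000000000000000000000000010101))))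
(.node (nat_lit 96) (.leaf (nat_lit 0) (nat_lit 0x3050206010400000000000000000000000000010101)) (.node (nat_lit 7) (.leaf (nat_lit 0) (nat_lit 0x10200000000000000000000000000000001)) (.leaf (nat_lit 0) (nat_lit 0x4080304020301020609050804030500000000000000000000000000000001))))))))
(.node (nat_lit 786) (.node (nat_lit 598) (.node (nat_lit 494) (.node (nat_lit 7) (.node (nat_lit 4) (.leaf (nat_lit 0) (nat_lit 0x204010300000000000000000000000000000001)) (.leaf (nat_lit 0) (nat_lit 0x4080304060905080402010500000000000000000000000000000001)))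
(.node (nat_lit 1) (.leaf (nat_lit 0) (nat_lit 0x4080304020301020b010c0b090605080500000000000000000000000000000001)) (.node (nat_lit 485) (.leaf (nat_lit 0) (nat_lit 0x4080304020903080604050102030406050500000000000000000000000000000001)) (.leaf (nat_lit 0) (nat_lit 0x40803040203060905080405080500000000000000000000000000000001)))))
(.node (nat_lit 82) (.node (nat_lit 1) (.leaf (nat_lit 0) (nat_lit 0x4080304020306090508040508060500000000000000000000000000000001)) (.node (nat_lit 1) (.leaf (nat_lit 0) (nat_lit 0x4080304060502030409080409050500000000000000000000000000000001)) (.leaf (nat_lit 0) (nat_lit 0x408030402030609050804050806090500000000000000000000000000000001))))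
(.node (nat_lit 5) (.leaf (nat_lit 0) (nat_lit 0x409030800000000000000000000000000010101)) (.node (nat_lit 2) (.leaf (nat_lit 0) (nat_lit 0x40803040605020500000000000000000000000202020202)) (.leaf (nat_lit 0) (nat_lit 0x4080304060502090500000000000000000000000202020202))))))
(.node (nat_lit 81) (.node (nat_lit 72) (.node (nat_lit 2) (.leaf (nat_lit 0) (nat_lit 0x4080304060905080402030408020500000000000000000000000000000001)) (.node (nat_lit 69) (.leaf (nat_lit 0) (nat_lit 0x408030406090508040203040802090500000000000000000000000000000001)) (.leaf (nat_lit 0) (nat_lit 0x40800000000000000000000000000000001))))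
(.node (nat_lit 1) (.leaf (nat_lit 0) (nat_lit 0x800000000000000000000000000010101)) (.node (nat_lit 1) (.leaf (nat_lit 0) (nat_lit 0x4090800000000000000000000000000010101)) (.leaf (nat_lit 0) (nat_lit 0x80900000000000000000000000000000001)))))
(.node (nat_lit 87) (.node (nat_lit 8) (.leaf (nat_lit 0) (nat_lit 0x408030402030609050500000000000000000000000000000001)) (.node (nat_lit 1) (.leaf (nat_lit 0) (nat_lit 0x408030406050203040809080500000000000000000000000000010101)) (.leaf (nat_lit 0) (nat_lit 0x40803040605020304090804090500000000000000000000000000000001))))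
(.node (nat_lit 7) (.leaf (nat_lit 0) (nat_lit 0x3050400000000000000000000000000010101)) (.node (nat_lit 2) (.leaf (nat_lit 0) (nat_lit 0x40803090408020500000000000000000000000202020202)) (.leaf (nat_lit 0) (nat_lit 0x4080304020906080500000000000000000000000202020202)))))))
(.node (nat_lit 173) (.node (nat_lit 78) (.node (nat_lit 75) (.node (nat_lit 2) (.leaf (nat_lit 0) (nat_lit 0x4080304060905080402030402050500000000000000000000000000000001)) (.leaf (nat_lit 0) (nat_lit 0x408030402030609050804050306020500000000000000000000000000000001)))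
(.node (nat_lit 1) (.leaf (nat_lit 0) (nat_lit 0x40500000000000000000000000000010101)) (.node (nat_lit 1) (.leaf (nat_lit 0) (nat_lit 0x500000000000000000000000000000001)) (.leaf (nat_lit 0) (nat_lit 0x4060500000000000000000000000000000001)))))
(.node (nat_lit 14) (.node (nat_lit 5) (.leaf (nat_lit 0) (nat_lit 0x50600000000000000000000000000010101)) (.node (nat_lit 8) (.leaf (nat_lit 0) (nat_lit 0x4080304020903080500000000000000000000000000000001)) (.leaf (nat_lit 0) (nat_lit 0x4080304020903080604050500000000000000000000000000010101))))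
(.node (nat_lit 79) (.leaf (nat_lit 0) (nat_lit 0x408030402030609050804050500000000000000000000000000000001)) (.node (nat_lit 1) (.leaf (nat_lit 0) (nat_lit 0x20300000000000000000000000000000001)) (.leaf (nat_lit 0) (nat_lit 0x2040300000000000000000000000000000001))))))
(.node (nat_lit 98) (.node (nat_lit 19) (.node (nat_lit 12) (.leaf (nat_lit 0) (nat_lit 0x300000000000000000000000000000001)) (.node (nat_lit 6) (.leaf (nat_lit 0) (nat_lit 0x4080304060905080500000000000000000000000000000001)) (.leaf (nat_lit 0) (nat_lit 0x4080304060905080402030500000000000000000000000000000001))))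
(.node (nat_lit 2) (.leaf (nat_lit 0) (nat_lit 0x408030406090508040203040500000000000000000000000000010101)) (.node (nat_lit 73) (.leaf (nat_lit 0) (nat_lit 0x40803040609050804020304020500000000000000000000000000010101)) (.leaf (nat_lit 0) (nat_lit 1)))))
(.node (nat_lit 131) (.node (nat_lit 69) (.leaf (nat_lit 0) (nat_lit 0x40803040609050804020304020102030500000000000000000000000000000001)) (.node (nat_lit 29) (.leaf (nat_lit 0) (nat_lit 0x4080304060502030408090500000000000000000000000202020202)) (.leaf (nat_lit 0) (nat_lit 0x40803040209030804050500000000000000000000000202020202))))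
(.node (nat_lit 60) (.leaf (nat_lit 0) (nat_lit 0x4080304060905080403020500000000000000000000000000000001)) (.node (nat_lit 1) (.leaf (nat_lit 0) (nat_lit 0x600000000000000000000000000010101)) (.leaf (nat_lit 0) (nat_lit 0x900000000000000000000000000010101))))))))))

theorem c13_t4_ok : allT (ref2 ps24 (nth 0 gp24) 12 (c13.us 4) (nth 0 c13.ws 4) (c13.b 4)) c13_t4 0 = true := by decide +kernel

/-- certificate -/
noncomputable def c13_f4a : Tr :=
  (.node (nat_lit 300487) (.node (nat_lit 284970) (.node (nat_lit 232923) (.node (nat_lit 232886) (.node (nat_lit 232827) (.node (nat_lit 232823) (.node (nat_lit 232818) (.leaf (nat_lit 232816) (nat_lit 0x4080304020306090508040103050805)) (.leaf (nat_lit 0) (nat_lit 0x408030406090508040203040801020505)))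
(.node (nat_lit 2) (.leaf (nat_lit 0) (nat_lit 0x4080304060905080402030408010205090105)) (.leaf (nat_lit 0) (nat_lit 0x40803040609050804020304020501060805))))
(.node (nat_lit 3) (.node (nat_lit 1) (.leaf (nat_lit 0) (nat_lit 0x4080304060905080402030408010205090405)) (.leaf (nat_lit 0) (nat_lit 0x40803040203060905080401030508060905)))
(.node (nat_lit 54) (.leaf (nat_lit 0) (nat_lit 0x4080304060905080402030408010205090605)) (.node (nat_lit 1) (.leaf (nat_lit 0) (nat_lit 0x40803040209030806040501020304080305)) (.leaf (nat_lit 0) (nat_lit 0x4080304020301020609050804030805040805))))))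
(.node (nat_lit 28) (.node (nat_lit 3) (.node (nat_lit 1) (.leaf (nat_lit 0) (nat_lit 0x4080304020301020609050804050304020805)) (.leaf (nat_lit 0) (nat_lit 0x408030402030102060905080405030402080405)))
(.node (nat_lit 1) (.leaf (nat_lit 0) (nat_lit 0x4080304060502030102040908030405030405)) (.node (nat_lit 1) (.leaf (nat_lit 0) (nat_lit 0x4080304060502030102040908030405030205)) (.leaf (nat_lit 0) (nat_lit 0x408030402030102060905080403080504020505)))))
(.node (nat_lit 3) (.node (nat_lit 1) (.leaf (nat_lit 0) (nat_lit 0x40803040203010206090508040308050205)) (.leaf (nat_lit 0) (nat_lit 0x4080304020301020609050804030805040205)))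
(.node (nat_lit 1) (.leaf (nat_lit 0) (nat_lit 0x4080304020301020609050804030805040605)) (.node (nat_lit 2) (.leaf (nat_lit 0) (nat_lit 0x4080304020306090508040103050206080305)) (.leaf (nat_lit 0) (nat_lit 0x40803040203010206090508040308050905)))))))
(.node (nat_lit 48929) (.node (nat_lit 48849) (.node (nat_lit 4) (.node (nat_lit 3) (.leaf (nat_lit 0) (nat_lit 0x408030402030102060905080403080504020905)) (.leaf (nat_lit 0) (nat_lit 0x408030402030102060905080403080509060205)))
(.node (nat_lit 48842) (.leaf (nat_lit 0) (nat_lit 0x40803040203010206090508040308050906020405)) (.node (nat_lit 1) (.leaf (nat_lit 0) (nat_lit 0x40803040203010205)) (.leaf (nat_lit 0) (nat_lit 0x40603080204010305)))))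
(.node (nat_lit 3) (.node (nat_lit 1) (.leaf (nat_lit 0) (nat_lit 0x40803040203010905)) (.leaf (nat_lit 0) (nat_lit 0x4080304020301090205)))
(.node (nat_lit 9) (.leaf (nat_lit 0) (nat_lit 0x408030402030102060905)) (.node (nat_lit 6) (.leaf (nat_lit 0) (nat_lit 0x40803040203060905080401080505)) (.leaf (nat_lit 0) (nat_lit 0x408030402030609050804010805090605))))))
(.node (nat_lit 1582) (.node (nat_lit 1518) (.node (nat_lit 1516) (.leaf (nat_lit 0) (nat_lit 0x40803040203010206090508040308050406090505)) (.leaf (nat_lit 0) (nat_lit 0x30502080104)))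
(.node (nat_lit 1) (.leaf (nat_lit 0) (nat_lit 0x3050206010804)) (.node (nat_lit 3) (.leaf (nat_lit 0) (nat_lit 0x406030802040105)) (.leaf (nat_lit 0) (nat_lit 0x406030802090105)))))
(.node (nat_lit 24) (.node (nat_lit 3) (.leaf (nat_lit 0) (nat_lit 0x408030406090508040203040201020308050905)) (.leaf (nat_lit 0) (nat_lit 0x40803040203060905080401030502060803010405)))
(.node (nat_lit 2) (.leaf (nat_lit 0) (nat_lit 0x408030402030102060905080405030402080105)) (.node (nat_lit 1) (.leaf (nat_lit 0) (nat_lit 0x408030406090508040203040801020304010505)) (.leaf (nat_lit 0) (nat_lit 0x40803040609050804020304080102030401050405))))))))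
(.node (nat_lit 1617) (.node (nat_lit 46) (.node (nat_lit 15) (.node (nat_lit 5) (.node (nat_lit 4) (.leaf (nat_lit 0) (nat_lit 0x408030406050203010205)) (.leaf (nat_lit 0) (nat_lit 0x40803040203010206090505)))
(.node (nat_lit 9) (.leaf (nat_lit 0) (nat_lit 0x4080304060502030102040905)) (.leaf (nat_lit 0) (nat_lit 0x4080304060502030409080105))))
(.node (nat_lit 4) (.node (nat_lit 3) (.leaf (nat_lit 0) (nat_lit 0x408030402030609050804010805)) (.leaf (nat_lit 0) (nat_lit 0x408030406050203040908010905)))
(.node (nat_lit 1) (.leaf (nat_lit 0) (nat_lit 0x40803040605020304090801090405)) (.node (nat_lit 1) (.leaf (nat_lit 0) (nat_lit 0x40803040605020304080102090805)) (.leaf (nat_lit 0) (nat_lit 0x4080304060502030102040908040905))))))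
(.node (nat_lit 1555) (.node (nat_lit 3) (.node (nat_lit 1) (.leaf (nat_lit 0) (nat_lit 0x40803040605020301020409080409030405)) (.leaf (nat_lit 0) (nat_lit 0x408030406050203010204090804090305)))
(.node (nat_lit 3) (.leaf (nat_lit 0) (nat_lit 0x40803040609050804020304080102030905)) (.node (nat_lit 1548) (.leaf (nat_lit 0) (nat_lit 0x40803040609050804020304080102030405)) (.leaf (nat_lit 0) (nat_lit 0x408030402030109020805)))))
(.node (nat_lit 13) (.node (nat_lit 3) (.leaf (nat_lit 0) (nat_lit 0x40803040209030804010205)) (.leaf (nat_lit 0) (nat_lit 0x40803040203010902080605)))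
(.node (nat_lit 1) (.leaf (nat_lit 0) (nat_lit 0x4080304020903080604050105)) (.node (nat_lit 1) (.leaf (nat_lit 0) (nat_lit 0x408030402090308060405010405)) (.leaf (nat_lit 0) (nat_lit 0x408030402090308060405010205)))))))
(.node (nat_lit 8943) (.node (nat_lit 18) (.node (nat_lit 2) (.node (nat_lit 1) (.leaf (nat_lit 0) (nat_lit 0x40803040203010206090508040505)) (.leaf (nat_lit 0) (nat_lit 0x408030402090308040506010505)))
(.node (nat_lit 13) (.leaf (nat_lit 0) (nat_lit 0x40803040209030806040501040605)) (.node (nat_lit 2) (.leaf (nat_lit 0) (nat_lit 0x4080304020301020609050804050304020605)) (.leaf (nat_lit 0) (nat_lit 0x408030402030102060905080405030405)))))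
(.node (nat_lit 8918) (.node (nat_lit 2) (.leaf (nat_lit 0) (nat_lit 0x4080304020301020609050804050305)) (.leaf (nat_lit 0) (nat_lit 0x408030402030609050804010305020305)))
(.node (nat_lit 1) (.leaf (nat_lit 0) (nat_lit 0x408030405)) (.node (nat_lit 5) (.leaf (nat_lit 0) (nat_lit 0x40603080205)) (.leaf (nat_lit 0) (nat_lit 0x4080304020905))))))
(.node (nat_lit 4676) (.node (nat_lit 5) (.node (nat_lit 1) (.leaf (nat_lit 0) (nat_lit 0x408030905)) (.leaf (nat_lit 0) (nat_lit 0x40803090405)))
(.node (nat_lit 4669) (.leaf (nat_lit 0) (nat_lit 0x4080304060905)) (.node (nat_lit 1) (.leaf (nat_lit 0) (nat_lit 0x40803040209030806040501020304080605)) (.leaf (nat_lit 0) (nat_lit 0x408030402090308060405010203040805)))))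
(.node (nat_lit 23) (.node (nat_lit 1) (.leaf (nat_lit 0) (nat_lit 0x408030406050203010204090803040505)) (.leaf (nat_lit 0) (nat_lit 0x40803040209030806040501020304080905)))
(.node (nat_lit 255) (.leaf (nat_lit 0) (nat_lit 0x40803040203010206090508040308050402030805)) (.node (nat_lit 2) (.leaf (nat_lit 0) (nat_lit 0x40803040605020304080105)) (.leaf (nat_lit 0) (nat_lit 0x4080304060502030408090105)))))))))
(.node (nat_lit 5662) (.node (nat_lit 1172) (.node (nat_lit 575) (.node (nat_lit 288) (.node (nat_lit 19) (.node (nat_lit 17) (.leaf (nat_lit 0) (nat_lit 0x408030406050203040801020905)) (.leaf (nat_lit 0) (nat_lit 0x408030406090508040203040801020105)))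
(.node (nat_lit 266) (.leaf (nat_lit 0) (nat_lit 0x40803040609050804020304080209010205)) (.leaf (nat_lit 0) (nat_lit 0x40803040605020301020b010c0b05))))
(.node (nat_lit 28) (.node (nat_lit 27) (.leaf (nat_lit 0) (nat_lit 0x40803040605020304080102090305)) (.leaf (nat_lit 0) (nat_lit 0x4080304060905080402030408010203040105)))
(.node (nat_lit 257) (.leaf (nat_lit 0) (nat_lit 0x40803040609050804020304020102030805)) (.node (nat_lit 1) (.leaf (nat_lit 0) (nat_lit 0x40803040209030804050105)) (.leaf (nat_lit 0) (nat_lit 0x4080304020903080401020505))))))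
(.node (nat_lit 306) (.node (nat_lit 20) (.node (nat_lit 18) (.leaf (nat_lit 0) (nat_lit 0x4080304020903080405060105)) (.leaf (nat_lit 0) (nat_lit 0x408030406090508040203040201020505)))
(.node (nat_lit 267) (.leaf (nat_lit 0) (nat_lit 0x40803040203060905080401030502060105)) (.node (nat_lit 1) (.leaf (nat_lit 0) (nat_lit 0x408030402090308040102050305)) (.leaf (nat_lit 0) (nat_lit 0x4080304020903080401020503060405)))))
(.node (nat_lit 271) (.node (nat_lit 1) (.leaf (nat_lit 0) (nat_lit 0x408030402030102060905080405030402060105)) (.leaf (nat_lit 0) (nat_lit 0x4080304020306090508040103050203010605)))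
(.node (nat_lit 5) (.leaf (nat_lit 0) (nat_lit 0x408030402030102060905080405)) (.node (nat_lit 3) (.leaf (nat_lit 0) (nat_lit 0x4080304060905080402030105)) (.leaf (nat_lit 0) (nat_lit 0x40803040609050804020301020405)))))))
(.node (nat_lit 3815) (.node (nat_lit 3720) (.node (nat_lit 3144) (.node (nat_lit 3141) (.leaf (nat_lit 0) (nat_lit 0x40803040609050804020304020105)) (.leaf (nat_lit 0) (nat_lit 0x40803040609050804020304080505)))
(.node (nat_lit 2) (.leaf (nat_lit 0) (nat_lit 0x408030406090508040203040805090605)) (.node (nat_lit 1) (.leaf (nat_lit 0) (nat_lit 0x408030406090508040203040802090505)) (.leaf (nat_lit 0) (nat_lit 0x408030406090508040203040805090405)))))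
(.node (nat_lit 4) (.node (nat_lit 3) (.leaf (nat_lit 0) (nat_lit 0x30802090104)) (.leaf (nat_lit 0) (nat_lit 0x40603080204010505)))
(.node (nat_lit 7) (.leaf (nat_lit 0) (nat_lit 0x4080304060502090105)) (.node (nat_lit 1) (.leaf (nat_lit 0) (nat_lit 0x4080304060502030102040305)) (.leaf (nat_lit 0) (nat_lit 0x408030406050203010204090305))))))
(.node (nat_lit 100) (.node (nat_lit 5) (.node (nat_lit 4) (.leaf (nat_lit 0) (nat_lit 0x204010503)) (.leaf (nat_lit 0) (nat_lit 0x40803040209010805)))
(.node (nat_lit 3) (.leaf (nat_lit 0) (nat_lit 0x4080304020901080605)) (.node (nat_lit 1) (.leaf (nat_lit 0) (nat_lit 0x4080304020903080401020305)) (.leaf (nat_lit 0) (nat_lit 0x408030402090308040102030605)))))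
(.node (nat_lit 5) (.node (nat_lit 1) (.leaf (nat_lit 0) (nat_lit 0x4080304060502030102040908040903040805)) (.leaf (nat_lit 0) (nat_lit 0x408030402030102060905080405030402060505)))
(.node (nat_lit 91) (.leaf (nat_lit 0) (nat_lit 0x4080304020301020609050804030205)) (.node (nat_lit 478) (.leaf (nat_lit 0) (nat_lit 0x408030406050209010805)) (.leaf (nat_lit 0) (nat_lit 0x4080304020305))))))))
(.node (nat_lit 292) (.node (nat_lit 115) (.node (nat_lit 91) (.node (nat_lit 3) (.node (nat_lit 2) (.leaf (nat_lit 0) (nat_lit 0x408030402030605)) (.leaf (nat_lit 0) (nat_lit 0x40803040203060905)))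
(.node (nat_lit 3) (.leaf (nat_lit 0) (nat_lit 264197)) (.leaf (nat_lit 0) (nat_lit 0x408060905))))
(.node (nat_lit 2) (.node (nat_lit 1) (.leaf (nat_lit 0) (nat_lit 50856452)) (.leaf (nat_lit 0) (nat_lit 198660)))
(.node (nat_lit 7) (.leaf (nat_lit 0) (nat_lit 0x308020904)) (.node (nat_lit 2) (.leaf (nat_lit 0) (nat_lit 0x4080304060505)) (.leaf (nat_lit 0) (nat_lit 0x408030406090505))))))
(.node (nat_lit 88) (.node (nat_lit 80) (.node (nat_lit 2) (.leaf (nat_lit 0) (nat_lit 0x408030406090508040203040805)) (.leaf (nat_lit 0) (nat_lit 0x40803040605020304090804090305)))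
(.node (nat_lit 1) (.leaf (nat_lit 0) (nat_lit 0x40803040605020305)) (.node (nat_lit 2) (.leaf (nat_lit 0) (nat_lit 0x4080304060502030405)) (.leaf (nat_lit 0) (nat_lit 0x408030406050203040905)))))
(.node (nat_lit 80) (.node (nat_lit 1) (.leaf (nat_lit 0) (nat_lit 0x40803040605020304090805)) (.leaf (nat_lit 0) (nat_lit 0x4080304060502030409080405)))
(.node (nat_lit 2) (.leaf (nat_lit 0) (nat_lit 50659844)) (.node (nat_lit 1) (.leaf (nat_lit 0) (nat_lit 0x305020604)) (.leaf (nat_lit 0) (nat_lit 67502853)))))))
(.node (nat_lit 196) (.node (nat_lit 97) (.node (nat_lit 11) (.node (nat_lit 2) (.leaf (nat_lit 0) (nat_lit 0x4080309040805)) (.leaf (nat_lit 0) (nat_lit 0x408030904080605)))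
(.node (nat_lit 2) (.leaf (nat_lit 0) (nat_lit 0x408030402030609050804050305)) (.node (nat_lit 83) (.leaf (nat_lit 0) (nat_lit 0x40803040203060905080405030605)) (.leaf (nat_lit 0) (nat_lit 0x4080304020903080405)))))
(.node (nat_lit 8) (.node (nat_lit 1) (.leaf (nat_lit 0) (nat_lit 0x4080304020903080605)) (.leaf (nat_lit 0) (nat_lit 0x408030402090308060405)))
(.node (nat_lit 1) (.leaf (nat_lit 0) (nat_lit 0x4080304020903080604050605)) (.node (nat_lit 89) (.leaf (nat_lit 0) (nat_lit 0x408030402090308060405060405)) (.leaf (nat_lit 0) (nat_lit 0x4080304020906080505))))))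
(.node (nat_lit 155) (.node (nat_lit 9) (.node (nat_lit 2) (.leaf (nat_lit 0) (nat_lit 0x408030406090508040205)) (.leaf (nat_lit 0) (nat_lit 0x4080304060905080405)))
(.node (nat_lit 76) (.leaf (nat_lit 0) (nat_lit 0x4080304060905080402030205)) (.node (nat_lit 4) (.leaf (nat_lit 0) (nat_lit 0x40803040609050804020304080102030401090805)) (.leaf (nat_lit 0) (nat_lit 0x4080304060905080403020105)))))
(.node (nat_lit 62) (.node (nat_lit 31) (.leaf (nat_lit 0) (nat_lit 0x408030406050203040805)) (.leaf (nat_lit 0) (nat_lit 0x40803040209030804050605)))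
(.node (nat_lit 34) (.leaf (nat_lit 0) (nat_lit 0x408030406090508040305)) (.node (nat_lit 26) (.leaf (nat_lit 0) (nat_lit 0x408030402030609050805)) (.leaf (nat_lit 0) (nat_lit 4))))))))))

theorem c13_f4a_ok : allT (ref4 ps24 (nth 0 gp24) 12 c13.xs (nat_lit 257)) c13_f4a 0 = true := by decide +kernel

theorem c13_f4a_y : c13.selfOK ps24 4 (nat_lit 257) = true := by decide +kernel

theorem c13_v4 : c13.lvOK 306936 W24 fx24 ps24 4 (fullM 306936) (Nat.lor (maskT c13_t4) (maskT c13_f4a)) [nat_lit 0, nat_lit 2, nat_lit 3]
    [nat_lit 1] (nat_lit 0xff000000000000000000000000)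
    [] 0 13 = true := by decide +kernel

theorem c13_res (M : FM D 306936 W24 g pt ps24 12 (nth 0 gp24)) (hA : Nat.card G = 2510411418381323442585600) : c13.Res g 4 13 := by
  have C := Ch.ok_sound M c13_ok
  have hx := fx24_ok M.tm
  have h10 : c13.Res g 10 1 := C.last M c13_z
  have h9 : c13.Res g 9 1 := C.lv M hx (C.cand_full M (by decide +kernel)) (C.ref_tree M (by decide +kernel) c13_t9_ok) c13_v9 h10
  have h5 : c13.Res g 5 1 := C.der M c13_d5 h9
  have h4 : c13.Res g 4 13 := C.lv M hx (C.cand_full M (by decide +kernel)) ((C.ref_tree M (by decide +kernel) c13_t4_ok).lor (C.ref_tree4 M c13_f4a_y c13_f4a_ok)) c13_v4 h5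
  exact h4

/-- word -/
noncomputable abbrev c13x : ℕ := nat_lit 0x302090506080104

theorem c13_ord : ordOK ps24 (nth 0 gp24) 12 c13x 13 = true := by decide +kernel

theorem c13_pts : (∀ i ∈ c13fF, i ∈ [c13.b 0, c13.b 1, c13.b 2, c13.b 3, act ps24 (nth 0 c13.ws 0) (c13.b 1),
    act ps24 (nth 0 c13.ws 2) (c13.b 3)]) ∧ pop 306936 (maskL c13fF) = 6 ∧
    act ps24 (nth 0 c13.ws 0) (c13.b 1) ≠ c13.b 1 ∧ act ps24 (nth 0 c13.ws 2) (c13.b 3) ≠ c13.b 3 ∧
    act ps24 (nth 0 c13.ws 2) (c13.b 0) = c13.b 0 ∧ act ps24 (nth 0 c13.ws 0) (c13.b 3) = c13.b 3 ∧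
    act ps24 (nth 0 c13.ws 2) (c13.b 1) = c13.b 1 ∧ act ps24 (nth 0 c13.ws 3) (c13.b 1) = c13.b 1 ∧
    ∀ j < 4, act ps24 c13x (c13.b j) = c13.b j := by decide +kernel

theorem c13_facts (M : FM D 306936 W24 g pt ps24 12 (nth 0 gp24)) : orderOf (ev g c13x) = 13 ∧
    (∀ y ∈ [pt (c13.b 0), pt (c13.b 1), pt (c13.b 2), pt (c13.b 3)], y ∈ D ∧ Commute (ev g c13x) y) ∧
    ¬ Commute (pt (c13.b 0)) (pt (c13.b 1)) ∧ ¬ Commute (pt (c13.b 2)) (pt (c13.b 3)) ∧
    Commute (pt (c13.b 0)) (pt (c13.b 2)) ∧ Commute (pt (c13.b 0)) (pt (c13.b 3)) ∧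
    Commute (pt (c13.b 1)) (pt (c13.b 2)) ∧ Commute (pt (c13.b 1)) (pt (c13.b 3)) := by
  have C := Ch.ok_sound M c13_ok
  have s : ∀ j < 4, c13.b j < 306936 ∧ ev g (nth 0 c13.ws j) = pt (c13.b j) := fun j hj =>
    C.spec (hj.trans (by decide +kernel))
  have k : ∀ i < 4, ∀ j < 4, Commute (pt (c13.b i)) (pt (c13.b j)) ↔ act ps24 (nth 0 c13.ws i) (c13.b j) = c13.b j :=
    fun i hi j hj => (s i hi).2 ▸ M.commute_iff' _ (s j hj).1
  have k2 : ∀ j < 4, pt (c13.b j) ∈ D ∧ Commute (ev g c13x) (pt (c13.b j)) := fun j hj =>
    ⟨M.tm.pt_mem (s j hj).1, (M.commute_iff' _ (s j hj).1).2 (c13_pts.2.2.2.2.2.2.2.2 j hj)⟩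
  obtain ⟨-, -, h1, h2, h3, h4, h5, h6, -⟩ := c13_pts
  refine ⟨order_of_ordOK M (by norm_num) c13_ord, ?_, mt (k 0 (by omega) 1 (by omega)).1 h1,
    mt (k 2 (by omega) 3 (by omega)).1 h2, ((k 2 (by omega) 0 (by omega)).2 h3).symm, (k 0 (by omega) 3 (by omega)).2 h4,
    ((k 2 (by omega) 1 (by omega)).2 h5).symm, ((k 3 (by omega) 1 (by omega)).2 h6).symm⟩
  simp only [List.forall_mem_cons]
  exact ⟨k2 0 (by omega), k2 1 (by omega), k2 2 (by omega), k2 3 (by omega), by simp⟩

theorem c13_row [Finite G] (M : FM D 306936 W24 g pt ps24 12 (nth 0 gp24)) (hA : Nat.card G = 2510411418381323442585600) {T K : Subgroup G}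
    (hT : T = closure {pt (c13.b 0), pt (c13.b 2), pt (c13.b 3), pt (c13.b 1)}) (hK : K = centralizer (T : Set G))
    (hc : Nat.card K = 4245696) : Row13 T K (zpowers (ev g c13x)) := by
  have C := Ch.ok_sound M c13_ok
  have s : ∀ j < 4, c13.b j < 306936 ∧ ev g (nth 0 c13.ws j) = pt (c13.b j) := fun j hj =>
    C.spec (hj.trans (by decide +kernel))
  obtain ⟨h1, h2, h3, h4, h5, h6, h7, h8⟩ := c13_facts M
  have h9 : semG 306936 pt (maskL c13fF) = D ∩ (centralizer (zpowers (ev g c13x) : Set G) : Set G) := by
    rw [c13f M]; ext y; exact and_congr_right fun _ => mem_cent_zpowers.symm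
  have m : ∀ j < 4, pt (c13.b j) ∈ T := fun j hj => hT ▸ subset_closure (by interval_cases j <;> simp)
  refine row13 M.tm.group hA h1 h2 h3 h4 h5 h6 h7 h8 hT hK hc ?_ (by rw [← h9, M.tm.ncard_semG, c13_pts.2.1]) ?_
  · rw [← h9, semG_maskL]
    rintro _ ⟨i, hi, -, rfl⟩
    have := c13_pts.1 i hi
    simp only [List.mem_cons, List.not_mem_nil, or_false] at this
    rcases this with rfl | rfl | rfl | rfl | rfl | rfl
    exacts [m 0 (by omega), m 1 (by omega), m 2 (by omega), m 3 (by omega),
      M.conj_eq _ (s 1 (by omega)).1 ▸ (s 0 (by omega)).2 ▸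
        mul_mem (mul_mem (m 0 (by omega)) (m 1 (by omega))) (inv_mem (m 0 (by omega))),
      M.conj_eq _ (s 3 (by omega)).1 ▸ (s 2 (by omega)).2 ▸
        mul_mem (mul_mem (m 2 (by omega)) (m 3 (by omega))) (inv_mem (m 2 (by omega)))]
  · rw [← (c13_res M hA).2]
    congr 2
    ext y
    rw [mem_H_iff M C (x := c13x) (by decide +kernel), mem_inf, mem_cent_zpowers, hK, hT, centralizer_closure, and_comm]
    refine and_congr_right' ⟨fun h j hj _ => (h _ (by interval_cases j <;> simp)).symm, fun h => ?_⟩
    rintro _ (rfl | rfl | rfl | rfl) <;> exact (h _ (by omega) (by decide +kernel)).symm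

end CfsgLib.FiOdd.P24g
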